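import Cfsg.Agent.H625.R4.Tools
import Cfsg.Agent.H625.R4.RealRep
import Cfsg.Agent.H711.BabyReal
import Cfsg.Agent.BM.KHAll
import Cfsg.Agent.S5587
import Cfsg.Agent.S1704
import Cfsg.Agent.S2084

/-!
# S4554: the row of the Baby Monster (helper625)

`p = 13`: real elements of order 13 (helper711), `4371 ≡ 3 (mod 13)` is not `± 1, ± 2, ± 4, ± 6`.
-/

set_option autoImplicit false

namespace Cfsg.Agent.H625.R4

open Cfsg Cfsg.Agent.H619.R4

universe u

theorem card_baby : Nat.card Spor.BabyMonster = 4154781481226426191177580544000000 := S1704.result.2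

theorem finite_baby : Finite Spor.BabyMonster :=
  Nat.finite_of_card_ne_zero (by rw [card_baby]; norm_num)

theorem rd_baby : RD Spor.BabyMonster ⊤ 4371 := by
  have := finite_baby
  have : IsSimpleGroup Spor.BabyMonster := S1704.result.1
  obtain ⟨⟨ρ, hρ⟩, h⟩ := S5587.result ℂ (by rw [ringChar.eq_zero]; norm_num)
  exact rd_of_unique (by norm_num) ρ hρ (h ρ hρ).1 (h ρ hρ).2

theorem real_baby : ∃ x : Spor.BabyMonster, 13 ∣ orderOf x ∧ IsConj x x⁻¹ := by
  obtain ⟨x, hx, hr⟩ := H711.BabyReal.thirteen
  refine ⟨BM.KHAll.iso.symm x, ?_, ?_⟩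
  · rwa [MulEquiv.orderOf_eq]
  · rw [← map_inv]
    exact BM.KHAll.iso.symm.toMonoidHom.map_isConj hr

theorem r3_baby : R3 Spor.BabyMonster ⊤ := by
  have := finite_baby
  haveI : Fact (Nat.Prime 13) := ⟨by norm_num⟩
  obtain ⟨P⟩ : Nonempty (Sylow 13 Spor.BabyMonster) := inferInstance
  have hP : Nat.card P = 13 := card_sylow P (by rw [card_baby]; norm_num) (by rw [card_baby]; norm_num)
  obtain ⟨x, hx, hr⟩ := real_baby
  refine three_of_degree_top (by norm_num) P hP (even_of_real (by norm_num) P hP hx hr) rd_baby ?_ ?_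
  · rintro s (rfl | rfl) <;> norm_num
  · have h1 : (13 - 1).divisors = {1, 2, 3, 4, 6, 12} := by decide +kernel
    rw [h1]
    intro e he hev s hs
    simp only [Finset.mem_insert, Finset.mem_singleton] at he
    rcases he with rfl | rfl | rfl | rfl | rfl | rfl
    · exact absurd hev (by decide)
    all_goals rcases hs with rfl | rfl <;> first | exact absurd hev (by decide) | norm_num

/-- **The row of the Baby Monster.** -/
theorem row_b {S : Type u} [Group S] (h : Spor.IsoB S) : Row S := by
  have := finite_baby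
  exact row_of_model S2084.result r3_baby h

end Cfsg.Agent.H625.R4
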