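import Cfsg.Agent.H625.R4.Tools
import Cfsg.Agent.H625.R4.RealRep
import Cfsg.Agent.H847.MonDeg
import Cfsg.Agent.S5540
import Cfsg.Agent.S1705
import Cfsg.Agent.S2085

/-!
# S4554: the row of the Monster (helper625)

`p = 17` is a Fermat prime, `196883 ≡ 6 (mod 17)` is not `± 1, ± 2, ± 4, ± 8`.
-/

set_option autoImplicit false

namespace Cfsg.Agent.H625.R4

open Cfsg Cfsg.Agent.H619.R4

universe u

theorem card_monster : Nat.card Spor.Monster = 808017424794512875886459904961710757005754368000000000 :=
  S1705.result.2

theorem finite_monster : Finite Spor.Monster :=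
  Nat.finite_of_card_ne_zero (by rw [card_monster]; norm_num)

theorem rd_monster : RD Spor.Monster ⊤ 196883 := by
  have := finite_monster
  have : IsSimpleGroup Spor.Monster := S1705.result.1
  obtain ⟨ρ, hρ, -⟩ := S5540.result
  refine rd_of_real ?_ ρ hρ
  intro n σ hn g
  by_contra hg
  have h1 := H847.MonDeg.bound σ ⟨g, hg⟩
  rw [Module.finrank_fin_fun] at h1
  omega

theorem r3_monster : R3 Spor.Monster ⊤ := by
  have := finite_monster
  have : IsSimpleGroup Spor.Monster := S1705.result.1
  haveI : Fact (Nat.Prime 17) := ⟨by norm_num⟩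
  obtain ⟨P⟩ : Nonempty (Sylow 17 Spor.Monster) := inferInstance
  have hP : Nat.card P = 17 := card_sylow P (by rw [card_monster]; norm_num) (by rw [card_monster]; norm_num)
  refine three_of_degree_top (by norm_num) P hP
    (even_of_fermat (k := 4) P hP (by rw [card_monster]; norm_num) (by norm_num)) rd_monster ?_ ?_
  · rintro s (rfl | rfl) <;> norm_num
  · have h1 : (17 - 1).divisors = {1, 2, 4, 8, 16} := by decide +kernel
    rw [h1]
    intro e he hev s hs
    simp only [Finset.mem_insert, Finset.mem_singleton] at he
    rcases he with rfl | rfl | rfl | rfl | rfl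
    · exact absurd hev (by decide)
    all_goals rcases hs with rfl | rfl <;> norm_num

/-- **The row of the Monster.** -/
theorem row_m {S : Type u} [Group S] (h : Spor.IsoM S) : Row S := by
  have := finite_monster
  exact row_of_model S2085.result r3_monster h

end Cfsg.Agent.H625.R4
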