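import Cfsg.Agent.H625.RealStem
import Cfsg.Prelude.Def_KGroupFacts

/-!
# S4554, tools for the sporadic rows (helper625)

* `index_dvd_out` : `N ≅ S` normal in `G`, `C_G(N) = 1`: `|G : N|` divides `|Out S|`;
* `row_of_model` : the row of a group `S` with `Out S = 1` from three degrees of `S`;
* `even_of_real` : `|N(P) : C(P)|` is even if some element of order divisible by `p` is real;
* `even_of_fermat` : ... if `p` is a Fermat prime and `G` is simple;
* `three_of_degree` : three degrees from one real degree which is not `≡ ± 1, ± e` for the even divisors `e` of `p - 1`.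
-/

set_option autoImplicit false

namespace Cfsg.Agent.H625.R4

open Cfsg Cfsg.Agent.H619.R4 Cfsg.Agent.H625.RealStem

universe u v

/-- Only inner automorphisms are induced: the index divides `|Out S|`. -/
theorem index_dvd_out {S : Type v} {G : Type u} [Group S] [Group G] [Finite G] (N : Subgroup G) [N.Normal] (e : S ≃* N)
    (hC : Subgroup.centralizer (N : Set G) = ⊥) : N.index ∣ Nat.card (Out S) := by
  classical
  have : Finite N := inferInstance
  have : Finite S := Finite.of_equiv N e.symm.toEquiv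
  have : Finite (MulAut S) := inferInstance
  -- `G → Aut N → Aut S`
  let φ : G →* MulAut S := (MulAut.congr e.symm).toMonoidHom.comp (MulAut.conjNormal : G →* MulAut N)
  have hφ : ∀ (g : G) (s : S), e (φ g s) = (MulAut.conjNormal g : MulAut N) (e s) := by
    intro g s
    show e (e.symm ((MulAut.conjNormal g : MulAut N) (e.symm.symm s))) = _
    rw [MulEquiv.apply_symm_apply]
    rfl
  have hinj : Function.Injective φ := by
    rw [injective_iff_map_eq_one]
    intro g hg
    have h1 : g ∈ Subgroup.centralizer (N : Set G) := by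
      rw [Subgroup.mem_centralizer_iff]
      intro n hn
      have h2 := hφ g (e.symm ⟨n, hn⟩)
      rw [hg] at h2
      rw [MulAut.one_apply, MulEquiv.apply_symm_apply] at h2
      have h3 : n = g * n * g⁻¹ := by
        have h4 := congrArg Subtype.val h2
        rwa [MulAut.conjNormal_apply] at h4
      calc n * g = (g * n * g⁻¹) * g := by rw [← h3]
        _ = g * n := by group
    rw [hC] at h1
    exact (Subgroup.mem_bot).1 h1
  have hN : N.map φ = Inn S := by
    apply le_antisymm
    · rintro _ ⟨n, hn, rfl⟩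
      refine ⟨e.symm ⟨n, hn⟩, ?_⟩
      ext s
      apply e.injective
      rw [hφ, MulAut.conj_apply, map_mul, map_mul, map_inv, MulEquiv.apply_symm_apply]
      apply Subtype.ext
      rw [MulAut.conjNormal_apply]
      rfl
    · rintro _ ⟨s, rfl⟩
      refine ⟨e s, (e s).2, ?_⟩
      ext t
      apply e.injective
      rw [hφ, MulAut.conj_apply, map_mul, map_mul, map_inv]
      apply Subtype.ext
      rw [MulAut.conjNormal_apply]
      rfl
  have h1 : (Inn S).relIndex φ.range = N.index := by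
    have h2 : φ.range = (⊤ : Subgroup G).map φ := MonoidHom.range_eq_map φ
    rw [← hN, h2, Subgroup.relIndex_map_map_of_injective _ _ hinj, Subgroup.relIndex_top_right]
  have h2 : Nat.card (Out S) = (Inn S).index := rfl
  rw [h2, ← h1]
  exact Subgroup.relIndex_dvd_index_of_normal _ _

theorem RD.equiv {G : Type u} {G' : Type v} [Group G] [Group G'] [Finite G] [Finite G'] (e : G ≃* G') {d : ℕ} (h : RD G' ⊤ d) : RD G ⊤ d := by
  obtain ⟨χ, h1, ⟨n, -, h2⟩, h3⟩ := h
  refine ⟨⟨(χ : G' → ℂ) ∘ e, Cfsg.Agent.Characters.Core.isIrr_comp e.toMonoidHom e.surjective χ.2⟩, fun g => h1 (e g),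
    ⟨e.symm n, trivial, ?_⟩, ?_⟩
  · show (χ : G' → ℂ) (e (e.symm n)) ≠ (χ : G' → ℂ) (e 1)
    rw [MulEquiv.apply_symm_apply, map_one]
    exact h2
  · rw [← h3]
    refine H612.Heredity.charDegree_eq_of_one ?_
    show (χ : G' → ℂ) (e 1) = (χ : G' → ℂ) 1
    rw [map_one]

theorem R3.equiv {G : Type u} {G' : Type v} [Group G] [Group G'] [Finite G] [Finite G'] (e : G ≃* G') (h : R3 G' ⊤) : R3 G ⊤ := by
  obtain ⟨a, b, c, h1, h2, h3, ha, hb, hc⟩ := h
  exact ⟨a, b, c, h1, h2, h3, RD.equiv e ha, RD.equiv e hb, RD.equiv e hc⟩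

/-- The row of a group without outer automorphisms. -/
theorem row_of_model {S₀ : Type v} [Group S₀] [Finite S₀] (hout : Nat.card (Out S₀) = 1) (h : R3 S₀ ⊤)
    {S : Type u} [Group S] (e : Nonempty (S ≃* S₀)) : Row S := by
  intro G _ _ N _ f hC _
  obtain ⟨e⟩ := e
  obtain ⟨f⟩ := f
  have h1 := index_dvd_out N (e.symm.trans f) hC
  rw [hout, Nat.dvd_one, Subgroup.index_eq_one] at h1
  subst h1
  exact R3.equiv ((Subgroup.topEquiv.symm.trans f.symm).trans e) h

section Even

variable {G : Type u} [Group G] [Finite G] {p : ℕ} [hp : Fact p.Prime]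

/-- An element of `N(P)` outside `C(P)` with square in `C(P)` makes the index even. -/
theorem even_of_sq (P : Subgroup G) {g : G} (hg : g ∈ Subgroup.normalizer (P : Set G))
    (h1 : g ∉ Subgroup.centralizer (P : Set G)) (h2 : g * g ∈ Subgroup.centralizer (P : Set G)) :
    Even ((Subgroup.centralizer (P : Set G)).relIndex (Subgroup.normalizer (P : Set G))) := by
  have hk := Subgroup.normalizerMonoidHom_ker P
  set f := P.normalizerMonoidHom with hf
  have h3 : (Subgroup.centralizer (P : Set G)).relIndex (Subgroup.normalizer (P : Set G)) = Nat.card f.range := by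
    rw [Subgroup.relIndex, ← hk, Subgroup.index_ker]
  rw [h3]
  have hne : f ⟨g, hg⟩ ≠ 1 := by
    intro h
    have h4 : (⟨g, hg⟩ : Subgroup.normalizer (P : Set G)) ∈ f.ker := h
    rw [hk] at h4
    exact h1 h4
  have hsq : f ⟨g, hg⟩ ^ 2 = 1 := by
    rw [pow_two, ← map_mul]
    have h4 : (⟨g, hg⟩ * ⟨g, hg⟩ : Subgroup.normalizer (P : Set G)) ∈ f.ker := by
      rw [hk]
      exact h2
    exact h4
  have ho : orderOf (⟨f ⟨g, hg⟩, ⟨_, rfl⟩⟩ : f.range) = 2 := by
    haveI : Fact (Nat.Prime 2) := ⟨Nat.prime_two⟩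
    refine orderOf_eq_prime (Subtype.ext hsq) fun h => hne (congrArg Subtype.val h)
  rw [even_iff_two_dvd, ← ho]
  exact orderOf_dvd_natCard _

/-- A real element of order divisible by `p` gives an even index. -/
theorem even_of_real (hp2 : p ≠ 2) (P : Sylow p G) (hP : Nat.card P = p) {x : G} (hx : p ∣ orderOf x)
    (hr : IsConj x x⁻¹) :
    Even ((Subgroup.centralizer ((P : Subgroup G) : Set G)).relIndex
      (Subgroup.normalizer ((P : Subgroup G) : Set G))) := by
  obtain ⟨m, hm⟩ := hx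
  have hx0 : 0 < orderOf x := orderOf_pos x
  have hm0 : m ≠ 0 := by
    rintro rfl
    omega
  -- `y = x ^ m` has order `p`
  have hy : orderOf (x ^ m) = p := by
    rw [orderOf_pow_of_dvd hm0 ⟨p, by rw [hm, mul_comm]⟩, hm]
    exact Nat.mul_div_cancel _ (Nat.pos_of_ne_zero hm0)
  obtain ⟨c, hc⟩ := isConj_iff.1 hr
  have hcy : c * x ^ m * c⁻¹ = (x ^ m)⁻¹ := by
    rw [← conj_pow, hc, inv_pow]
  -- conjugate into `P`
  have hyp : IsPGroup p (Subgroup.zpowers (x ^ m)) :=
    IsPGroup.of_card (n := 1) (by rw [Nat.card_zpowers, hy, pow_one])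
  obtain ⟨Q, hQ⟩ := hyp.exists_le_sylow
  obtain ⟨d, hd⟩ := MulAction.exists_smul_eq G Q P
  have hyP : d * x ^ m * d⁻¹ ∈ (P : Subgroup G) := by
    rw [← hd]
    show d * x ^ m * d⁻¹ ∈ ((d • Q : Sylow p G) : Subgroup G)
    rw [Sylow.coe_subgroup_smul]
    exact Subgroup.smul_mem_pointwise_smul _ (MulAut.conj d) _ (hQ (Subgroup.mem_zpowers _))
  set z := d * x ^ m * d⁻¹ with hz
  have hz1 : z ≠ 1 := by
    intro h
    have h1 : x ^ m = 1 := by
      have : x ^ m = d⁻¹ * z * d := by rw [hz]; group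
      rw [this, h]; group
    rw [h1, orderOf_one] at hy
    exact hp.out.one_lt.ne hy
  have hzP : Subgroup.zpowers z = (P : Subgroup G) := Blocks.CyclicOrtho.zpowers_eq P hP hyP hz1
  set g := d * c * d⁻¹ with hg
  have hgz : g * z * g⁻¹ = z⁻¹ := by
    have e1 : g * z * g⁻¹ = d * (c * x ^ m * c⁻¹) * d⁻¹ := by
      rw [hg, hz]
      generalize x ^ m = w
      group
    rw [e1, hcy, hz, mul_inv_rev, mul_inv_rev, inv_inv, mul_assoc]
  have hgn : g ∈ Subgroup.normalizer ((P : Subgroup G) : Set G) := by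
    rw [← hzP]
    have h1 : (Subgroup.zpowers z).map (MulAut.conj g).toMonoidHom = Subgroup.zpowers z := by
      rw [MonoidHom.map_zpowers]
      have h2 : (MulAut.conj g).toMonoidHom z = z⁻¹ := hgz
      rw [h2, Subgroup.zpowers_inv]
    rw [Subgroup.mem_normalizer_iff]
    intro h
    constructor
    · intro hh
      rw [← h1]
      exact ⟨h, hh, rfl⟩
    · intro hh
      rw [← h1] at hh
      obtain ⟨k, hk, hk2⟩ := hh
      have h3 : k = h := (MulAut.conj g).injective hk2
      rwa [← h3]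
  refine even_of_sq (P : Subgroup G) hgn ?_ ?_
  · intro hgc
    have h1 := (Subgroup.mem_centralizer_iff.1 hgc) z hyP
    have h2 : z = z⁻¹ := by
      rw [← hgz, ← h1]; group
    have h3 : z ^ 2 = 1 := by
      rw [pow_two]
      nth_rewrite 2 [h2]
      exact mul_inv_cancel z
    have h4 := orderOf_dvd_of_pow_eq_one h3
    rw [Blocks.CyclicOrtho.orderOf_eq P hP hyP hz1] at h4
    exact hp2 ((Nat.prime_dvd_prime_iff_eq hp.out Nat.prime_two).1 h4)
  · rw [← Blocks.CyclicOrtho.centralizer_eq P hP hyP hz1, Subgroup.mem_centralizer_singleton_iff]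
    have h1 : g * g * z * (g * g)⁻¹ = z := by
      calc g * g * z * (g * g)⁻¹ = g * (g * z * g⁻¹) * g⁻¹ := by group
        _ = g * z⁻¹ * g⁻¹ := by rw [hgz]
        _ = (g * z * g⁻¹)⁻¹ := by group
        _ = z := by rw [hgz, inv_inv]
    calc g * g * z = g * g * z * (g * g)⁻¹ * (g * g) := by group
      _ = z * (g * g) := by rw [h1]

/-- Burnside: in a simple group the index is not `1`. -/
theorem relIndex_ne_one [IsSimpleGroup G] (P : Sylow p G) (hP : Nat.card P = p) (hG : Nat.card G ≠ p) :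
    (Subgroup.centralizer ((P : Subgroup G) : Set G)).relIndex
      (Subgroup.normalizer ((P : Subgroup G) : Set G)) ≠ 1 := by
  intro h
  rw [Subgroup.relIndex_eq_one] at h
  have h1 := MonoidHom.ker_transferSylow_isComplement' P h
  rcases (MonoidHom.normal_ker (MonoidHom.transferSylow P h)).eq_bot_or_eq_top with h2 | h2
  · rw [h2, Subgroup.isComplement'_bot_left] at h1
    apply hG
    have h3 : Nat.card (P : Subgroup G) = p := hP
    rw [h1, Subgroup.card_top] at h3
    exact h3
  · rw [h2, Subgroup.isComplement'_top_left] at h1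
    have h3 : Nat.card (P : Subgroup G) = p := hP
    rw [h1, Subgroup.card_bot] at h3
    exact hp.out.one_lt.ne h3

/-- In a simple group the index is even for a Fermat prime `p`. -/
theorem even_of_fermat [IsSimpleGroup G] (P : Sylow p G) (hP : Nat.card P = p) (hG : Nat.card G ≠ p)
    {k : ℕ} (hk : p - 1 = 2 ^ k) :
    Even ((Subgroup.centralizer ((P : Subgroup G) : Set G)).relIndex
      (Subgroup.normalizer ((P : Subgroup G) : Set G))) := by
  have h1 := relIndex_dvd P hP
  rw [hk] at h1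
  obtain ⟨j, -, hj⟩ := (Nat.dvd_prime_pow Nat.prime_two).1 h1
  rw [hj]
  rcases Nat.eq_zero_or_pos j with h | h
  · exfalso
    rw [h, pow_zero] at hj
    exact relIndex_ne_one P hP hG hj
  · exact (Nat.even_pow.2 ⟨even_two, h.ne'⟩)

/-- **Three degrees**: a real degree `d` which is not `≡ ± 1, ± e` modulo `p` for any even divisor `e` of `p - 1`. -/
theorem three_of_degree (hp2 : p ≠ 2) (P : Sylow p G) (hP : Nat.card P = p)
    (he : Even ((Subgroup.centralizer ((P : Subgroup G) : Set G)).relIndex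
      (Subgroup.normalizer ((P : Subgroup G) : Set G))))
    (N : Subgroup G) [N.Normal] (hPN : (P : Subgroup G) ≤ N)
    (hN : N ⊔ Subgroup.centralizer ((P : Subgroup G) : Set G) = ⊤) {d : ℕ} (hd : RD G N d)
    (h1 : ∀ s : ℤ, (s = 1 ∨ s = -1) → ¬ (p : ℤ) ∣ (d : ℤ) - s)
    (h2 : ∀ e ∈ (p - 1).divisors, Even e → ∀ s : ℤ, (s = 1 ∨ s = -1) → ¬ (p : ℤ) ∣ (d : ℤ) - s * e) : R3 G N := by
  obtain ⟨a, b, hab, ha, hb, ⟨s, hs, hs1⟩, ⟨t, ht, ht1⟩⟩ := rd_two hp2 P hP rfl he N hPN hN
  refine ⟨a, b, d, hab, ?_, ?_, ha, hb, hd⟩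
  · rintro rfl
    exact h1 s hs hs1
  · rintro rfl
    refine h2 _ (Nat.mem_divisors.2 ⟨relIndex_dvd P hP, ?_⟩) he t ht ht1
    have := hp.out.one_lt
    omega

/-- The same for `N = G`. -/
theorem three_of_degree_top (hp2 : p ≠ 2) (P : Sylow p G) (hP : Nat.card P = p)
    (he : Even ((Subgroup.centralizer ((P : Subgroup G) : Set G)).relIndex
      (Subgroup.normalizer ((P : Subgroup G) : Set G)))) {d : ℕ} (hd : RD G ⊤ d)
    (h1 : ∀ s : ℤ, (s = 1 ∨ s = -1) → ¬ (p : ℤ) ∣ (d : ℤ) - s)
    (h2 : ∀ e ∈ (p - 1).divisors, Even e → ∀ s : ℤ, (s = 1 ∨ s = -1) → ¬ (p : ℤ) ∣ (d : ℤ) - s * e) : R3 G ⊤ :=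
  three_of_degree hp2 P hP he ⊤ le_top (by simp) hd h1 h2

/-- The order of a Sylow subgroup when `p` divides the order exactly once. -/
theorem card_sylow (P : Sylow p G) (h1 : p ∣ Nat.card G) (h2 : ¬ p ^ 2 ∣ Nat.card G) : Nat.card P = p := by
  obtain ⟨n, hn⟩ := IsPGroup.iff_card.1 P.isPGroup'
  have h3 : p ∣ Nat.card P := P.dvd_card_of_dvd_card h1
  have h4 : n = 1 := by
    rcases n with _ | _ | n
    · rw [hn, pow_zero] at h3
      exact absurd (Nat.dvd_one.1 h3) hp.out.one_lt.ne'
    · rfl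
    · exfalso
      apply h2
      have h5 : Nat.card P ∣ Nat.card G := Subgroup.card_subgroup_dvd_card _
      rw [hn] at h5
      exact (pow_dvd_pow p (by omega)).trans h5
  rw [hn, h4, pow_one]

end Even

end Cfsg.Agent.H625.R4
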